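import Cfsg.Agent.Lib.PlaneThree.Basic

/-!
Uniqueness of the plane of order three and the size of its automorphism group.
-/

set_option autoImplicit false
set_option linter.unusedSectionVars false
set_option synthInstance.maxSize 1024

namespace Cfsg.Agent.Lib.PlaneThree

open Finset
open scoped Pointwise

/-- Nine affine points and four points at infinity. -/
abbrev MPt := (ZMod 3 × ZMod 3) ⊕ Fin 4

/-- The line classes in the affine plane. -/
def coord : Fin 4 → ZMod 3 × ZMod 3 → ZMod 3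
  | 0, v => v.1
  | 1, v => v.2
  | 2, v => v.1 - v.2
  | 3, v => v.1 + v.2

def onLine (k : Fin 4) (c : ZMod 3) : MPt → Bool
  | Sum.inl v => coord k v == c
  | Sum.inr j => j == k

def onInf : MPt → Bool
  | Sum.inl _ => false
  | Sum.inr _ => true

def mline (k : Fin 4) (c : ZMod 3) : Finset MPt := univ.filter fun x => onLine k c x = true

def minf : Finset MPt := univ.filter fun x => onInf x = true

theorem mem_mline_inl {k : Fin 4} {c : ZMod 3} {v : ZMod 3 × ZMod 3} :
    (Sum.inl v : MPt) ∈ mline k c ↔ coord k v = c := by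
  rw [mline, Finset.mem_filter, onLine]; simp

theorem mem_mline_inr {k j : Fin 4} {c : ZMod 3} : (Sum.inr j : MPt) ∈ mline k c ↔ j = k := by
  rw [mline, Finset.mem_filter, onLine]; simp

theorem mem_minf {x : MPt} : x ∈ minf ↔ ∃ k, x = Sum.inr k := by
  rcases x with v | k <;> rw [minf, Finset.mem_filter, onInf] <;> simp

/-- The model. -/
def mLines : Finset (Finset MPt) :=
  insert minf ((univ : Finset (Fin 4 × ZMod 3)).image fun q => mline q.1 q.2)

theorem card_mLines : mLines.card ≤ 13 :=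
  (card_insert_le _ _).trans (Nat.succ_le_succ (card_image_le.trans (le_of_eq rfl)))

theorem latin_diff : ∀ a b : ZMod 3, b ≠ a → ∀ c : ZMod 3, c ≠ a → c ≠ b → ∀ d : ZMod 3, d ≠ a →
    ∀ e : ZMod 3, e ≠ a → e ≠ d → e ≠ c → ∀ f : ZMod 3, f ≠ a → f ≠ d → ∀ g : ZMod 3, g ≠ a → g ≠ f → g ≠ b →
    (e = b ∧ g = c ∧ d = c ∧ f = b) := by decide +kernel

/-- A Latin square constant on the diagonal. -/
theorem latin_one (g : ZMod 3 × ZMod 3 → ZMod 3)
    (hrow : ∀ i j j', g (i, j) = g (i, j') → j = j') (hcol : ∀ i i' j, g (i, j) = g (i', j) → i = i')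
    (hdiag : ∀ i, g (i, i) = g (0, 0)) (v w : ZMod 3 × ZMod 3) :
    g v = g w ↔ coord 2 v = coord 2 w := by
  have r : ∀ i j j', j ≠ j' → g (i, j) ≠ g (i, j') := fun i j j' h e => h (hrow i j j' e)
  have c : ∀ i i' j, i ≠ i' → g (i, j) ≠ g (i', j) := fun i i' j h e => h (hcol i i' j e)
  have h := latin_diff (g (0, 0)) (g (0, 1)) (r 0 1 0 (by decide)) (g (0, 2)) (r 0 2 0 (by decide))
    (r 0 2 1 (by decide)) (g (1, 0)) (c 1 0 0 (by decide)) (g (1, 2))
    (by rw [← hdiag 1]; exact r 1 2 1 (by decide)) (r 1 2 0 (by decide)) (c 1 0 2 (by decide))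
    (g (2, 0)) (c 2 0 0 (by decide)) (c 2 1 0 (by decide)) (g (2, 1))
    (by rw [← hdiag 2]; exact r 2 1 2 (by decide)) (r 2 1 0 (by decide)) (c 2 0 1 (by decide))
  obtain ⟨e1, e2, e3, e4⟩ := h
  have h01 := r 0 1 0 (by decide)
  have h02 := r 0 2 0 (by decide)
  have h12 := r 0 1 2 (by decide)
  have val : ∀ u : ZMod 3 × ZMod 3, g u = if coord 2 u = 0 then g (0, 0) else
      if coord 2 u = 2 then g (0, 1) else g (0, 2) := by
    intro u
    obtain ⟨i, j⟩ := u
    have hi : i = 0 ∨ i = 1 ∨ i = 2 := by revert i; decide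
    have hj : j = 0 ∨ j = 1 ∨ j = 2 := by revert j; decide
    rcases hi with rfl | rfl | rfl <;> rcases hj with rfl | rfl | rfl <;>
      simp (config := { decide := true }) [coord, e1, e2, e3, e4, hdiag 1, hdiag 2]
  rw [val v, val w]
  generalize coord 2 v = x
  generalize coord 2 w = y
  have hx : x = 0 ∨ x = 1 ∨ x = 2 := by revert x; decide
  have hy : y = 0 ∨ y = 1 ∨ y = 2 := by revert y; decide
  rcases hx with rfl | rfl | rfl <;> rcases hy with rfl | rfl | rfl <;>
    simp (config := { decide := true }) [h01, h02, h12, h01.symm, h02.symm, h12.symm]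

theorem latin_two_aux : ∀ a00 a01 : ZMod 3, a01 ≠ a00 → ∀ a02 : ZMod 3, a02 ≠ a00 → a02 ≠ a01 →
    ∀ a11 : ZMod 3, a11 ≠ a00 → a11 ≠ a01 → ∀ a22 : ZMod 3, a22 ≠ a00 → a22 ≠ a11 → a22 ≠ a02 →
    ∀ a10 : ZMod 3, a10 ≠ a00 → a10 ≠ a11 → a10 ≠ a02 → ∀ a12 : ZMod 3, a12 ≠ a10 → a12 ≠ a11 → a12 ≠ a22 →
    ∀ a20 : ZMod 3, a20 ≠ a00 → a20 ≠ a10 → a20 ≠ a22 → ∀ a21 : ZMod 3, a21 ≠ a20 → a21 ≠ a22 → a21 ≠ a01 →
    (a10 = a01 ∧ a22 = a01 ∧ a11 = a02 ∧ a20 = a02 ∧ a12 = a00 ∧ a21 = a00) := by decide +kernel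

/-- A Latin square orthogonal to the difference square. -/
theorem latin_two (g : ZMod 3 × ZMod 3 → ZMod 3)
    (hrow : ∀ i j j', g (i, j) = g (i, j') → j = j') (hcol : ∀ i i' j, g (i, j) = g (i', j) → i = i')
    (horth : ∀ v w, coord 2 v = coord 2 w → g v = g w → v = w) (v w : ZMod 3 × ZMod 3) :
    g v = g w ↔ coord 3 v = coord 3 w := by
  have r : ∀ i j j', j ≠ j' → g (i, j) ≠ g (i, j') := fun i j j' h e => h (hrow i j j' e)
  have c : ∀ i i' j, i ≠ i' → g (i, j) ≠ g (i', j) := fun i i' j h e => h (hcol i i' j e)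
  have o : ∀ v w, coord 2 v = coord 2 w → v ≠ w → g v ≠ g w := fun v w h hne e => hne (horth v w h e)
  have h := latin_two_aux (g (0, 0)) (g (0, 1)) (r 0 1 0 (by decide)) (g (0, 2)) (r 0 2 0 (by decide))
    (r 0 2 1 (by decide)) (g (1, 1)) (o _ _ (by decide) (by decide)) (c 1 0 1 (by decide))
    (g (2, 2)) (o _ _ (by decide) (by decide)) (o _ _ (by decide) (by decide)) (c 2 0 2 (by decide))
    (g (1, 0)) (c 1 0 0 (by decide)) (r 1 0 1 (by decide)) (o _ _ (by decide) (by decide))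
    (g (1, 2)) (r 1 2 0 (by decide)) (r 1 2 1 (by decide)) (c 1 2 2 (by decide))
    (g (2, 0)) (c 2 0 0 (by decide)) (c 2 1 0 (by decide)) (r 2 0 2 (by decide))
    (g (2, 1)) (r 2 1 0 (by decide)) (r 2 1 2 (by decide)) (c 2 0 1 (by decide))
  obtain ⟨e1, e2, e3, e4, e5, e6⟩ := h
  have h01 := r 0 1 0 (by decide)
  have h02 := r 0 2 0 (by decide)
  have h12 := r 0 1 2 (by decide)
  have val : ∀ u : ZMod 3 × ZMod 3, g u = if coord 3 u = 0 then g (0, 0) else
      if coord 3 u = 1 then g (0, 1) else g (0, 2) := by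
    intro u
    obtain ⟨i, j⟩ := u
    have hi : i = 0 ∨ i = 1 ∨ i = 2 := by revert i; decide
    have hj : j = 0 ∨ j = 1 ∨ j = 2 := by revert j; decide
    rcases hi with rfl | rfl | rfl <;> rcases hj with rfl | rfl | rfl <;>
      simp (config := { decide := true }) [coord, e1, e2, e3, e4, e5, e6]
  rw [val v, val w]
  generalize coord 3 v = x
  generalize coord 3 w = y
  have hx : x = 0 ∨ x = 1 ∨ x = 2 := by revert x; decide
  have hy : y = 0 ∨ y = 1 ∨ y = 2 := by revert y; decide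
  rcases hx with rfl | rfl | rfl <;> rcases hy with rfl | rfl | rfl <;>
    simp (config := { decide := true }) [h01, h02, h12, h01.symm, h02.symm, h12.symm]

variable {α : Type*} [Fintype α] [DecidableEq α] {L : Set (Finset α)}

/-- The plane of order three is unique. -/
theorem IsPlane.exists_iso (P : IsPlane L) : Cfsg.SetSystemIso L (mLines : Set (Finset MPt)) := by
  classical
  obtain ⟨l0, hl0⟩ : ∃ l, l ∈ L := by
    obtain ⟨l, hl⟩ := card_pos.1 (by rw [P.card_lines]; omega : 0 < (lines L).card)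
    exact ⟨l, mem_lines.1 hl⟩
  let e := (l0.equivFinOfCardEq (P.card_line hl0)).symm
  have he : ∀ k, (e k : α) ∈ l0 := fun k => (e k).2
  let A := {p : α // p ∉ l0}
  have hAne : ∀ (k : Fin 4) (p : A), (e k : α) ≠ p.1 := fun k p h => p.2 (h ▸ he k)
  -- the lines of one class
  let C : Fin 4 → Finset (Finset α) := fun k => (through L (e k : α)).erase l0
  have hC : ∀ k, (C k).card = 3 := fun k => by
    rw [card_erase_of_mem (mem_through.2 ⟨hl0, he k⟩), P.card_through]
  have hCmem : ∀ (k : Fin 4) (p : A), line L (e k : α) p.1 ∈ C k := fun k p => by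
    obtain ⟨h1, h2, h3⟩ := P.line_spec (hAne k p)
    exact mem_erase.2 ⟨fun h => p.2 ((congrArg (fun s : Finset α => p.1 ∈ s) h).mp h3), mem_through.2 ⟨h1, h2⟩⟩
  have hsep : ∀ (k k' : Fin 4), k ≠ k' → ∀ p q : A, line L (e k : α) p.1 = line L (e k : α) q.1 →
      line L (e k' : α) p.1 = line L (e k' : α) q.1 → p = q := by
    intro k k' hk p q h h'
    obtain ⟨h1, h2, h3⟩ := P.line_spec (hAne k p)
    obtain ⟨h1', h2', h3'⟩ := P.line_spec (hAne k' p)
    refine Subtype.ext (P.eq_point h1 h1' ?_ h3 ?_ h3' ?_)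
    · intro hh
      have hee : (e k : α) ≠ e k' := fun x => hk (e.injective (Subtype.ext x))
      have := P.eq_of_two hee h1 hl0 h2 (by rw [hh]; exact h2') (he k) (he k')
      exact p.2 ((congrArg (fun s : Finset α => p.1 ∈ s) this).mp h3)
    · rw [h]; exact (P.line_spec (hAne k q)).2.2
    · rw [h']; exact (P.line_spec (hAne k' q)).2.2
  have hA : Fintype.card A = 9 := by
    rw [Fintype.card_subtype_compl, Fintype.card_coe, P.card_points, P.card_line hl0]
  -- coordinates of the first two classes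
  let lab : ∀ k, ↥(C k) ≃ ZMod 3 := fun k => ((C k).equivFinOfCardEq (hC k))
  let g : Fin 4 → A → ZMod 3 := fun k p => lab k ⟨_, hCmem k p⟩
  have hg : ∀ k p q, g k p = g k q ↔ line L (e k : α) p.1 = line L (e k : α) q.1 := fun k p q => by
    constructor
    · intro h; exact congrArg Subtype.val ((lab k).injective h)
    · intro h; exact congrArg (lab k) (Subtype.ext h)
  have hbij : ∀ k k', k ≠ k' → Function.Bijective fun p : A => (g k p, g k' p) := by
    intro k k' hk
    rw [Fintype.bijective_iff_injective_and_card]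
    refine ⟨fun p q h => ?_, by rw [hA]; rfl⟩
    simp only [Prod.mk.injEq, hg] at h
    exact hsep k k' hk p q h.1 h.2
  obtain ⟨p0⟩ : Nonempty A := Fintype.card_pos_iff.1 (by omega)
  -- normalise the second coordinate along the line through the third point
  have hτ : ∀ i : ZMod 3, ∃! j : ZMod 3, ∃ p : A, g 2 p = g 2 p0 ∧ g 0 p = i ∧ g 1 p = j := by
    intro i
    obtain ⟨p, hp⟩ := (hbij 2 0 (by decide)).2 (g 2 p0, i)
    simp only [Prod.mk.injEq] at hp
    refine ⟨g 1 p, ⟨p, hp.1, hp.2, rfl⟩, ?_⟩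
    rintro j ⟨q, h1, h2, rfl⟩
    have hpq : p = q := (hbij 2 0 (by decide)).1 (Prod.ext (hp.1.trans h1.symm) (hp.2.trans h2.symm))
    rw [hpq]
  choose τ hτ' hτu using hτ
  have hτi : Function.Injective τ := by
    intro i i' h
    obtain ⟨p, h1, h2, h3⟩ := hτ' i
    obtain ⟨q, h1', h2', h3'⟩ := hτ' i'
    have hpq : p = q := (hbij 2 1 (by decide)).1
      (Prod.ext (h1.trans h1'.symm) ((h3.trans h).trans h3'.symm))
    rw [← h2, ← h2', hpq]
  let τe : ZMod 3 ≃ ZMod 3 := Equiv.ofBijective τ ((Finite.injective_iff_bijective).1 hτi)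
  let co : A → ZMod 3 × ZMod 3 := fun p => (g 0 p, τe.symm (g 1 p))
  have hco : Function.Bijective co :=
    ((Equiv.prodCongr (Equiv.refl _) τe.symm).bijective.comp (hbij 0 1 (by decide)))
  let coE : A ≃ ZMod 3 × ZMod 3 := Equiv.ofBijective co hco
  let G : Fin 4 → ZMod 3 × ZMod 3 → ZMod 3 := fun k v => g k (coE.symm v)
  have hG0 : ∀ v, G 0 v = v.1 := fun v => congrArg Prod.fst (coE.apply_symm_apply v)
  have hG1 : ∀ v, G 1 v = τe v.2 := fun v => by
    have h := congrArg Prod.snd (coE.apply_symm_apply v)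
    show g 1 (coE.symm v) = τe v.2
    rw [← h]
    exact (τe.apply_symm_apply _).symm
  have hsepG : ∀ k k' v w, k ≠ k' → G k v = G k w → G k' v = G k' w → v = w := fun k k' v w hk h h' =>
    coE.symm.injective ((hbij k k' hk).1 (Prod.ext h h'))
  have hrow : ∀ k : Fin 4, k ≠ 0 → ∀ i j j', G k (i, j) = G k (i, j') → j = j' := fun k hk i j j' h =>
    congrArg Prod.snd (hsepG k 0 _ _ hk h (by rw [hG0, hG0]))
  have hcol : ∀ k : Fin 4, k ≠ 1 → ∀ i i' j, G k (i, j) = G k (i', j) → i = i' := fun k hk i i' j h =>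
    congrArg Prod.fst (hsepG k 1 _ _ hk h (by rw [hG1, hG1]))
  have hdiag0 : ∀ i, G 2 (i, i) = g 2 p0 := by
    intro i
    obtain ⟨p, h1, h2, h3⟩ := hτ' i
    have : coE p = (i, i) := Prod.ext h2 (τe.symm_apply_eq.2 h3)
    show g 2 (coE.symm (i, i)) = g 2 p0
    rw [← this, coE.symm_apply_apply, h1]
  have h2 := latin_one (G 2) (hrow 2 (by decide)) (hcol 2 (by decide))
    (fun i => by rw [hdiag0, hdiag0])
  have h3 := latin_two (G 3) (hrow 3 (by decide)) (hcol 3 (by decide))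
    (fun v w h h' => hsepG 2 3 v w (by decide) ((h2 v w).2 h) h')
  have hclass : ∀ (k : Fin 4) v w, G k v = G k w ↔ coord k v = coord k w := by
    intro k v w
    fin_cases k
    · simp [hG0, coord]
    · simp [hG1, coord]
    · exact h2 v w
    · exact h3 v w
  -- the point bijection
  let F : α ≃ MPt :=
    ((Equiv.sumCompl fun p => p ∉ l0).symm.trans
      (Equiv.sumCongr coE ((Equiv.subtypeEquivRight fun p => not_not).trans e.symm)))
  have hFa : ∀ p : A, F p.1 = Sum.inl (coE p) := fun p => by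
    simp [F, Equiv.sumCompl_symm_apply_of_pos p.2]
  have hFe : ∀ k, F (e k : α) = Sum.inr k := fun k => by
    simp only [F, Equiv.trans_apply]
    rw [Equiv.sumCompl_symm_apply_of_neg (p := fun p => p ∉ l0) (not_not.2 (he k))]
    simp [Equiv.subtypeEquivRight]
    exact e.symm_apply_eq.2 (Subtype.ext rfl)
  refine ⟨F, Set.eq_of_subset_of_ncard_le ?_ ?_ (Set.toFinite _)⟩
  · rintro _ ⟨l, hl, rfl⟩
    rw [Finset.mem_coe, mLines]
    by_cases hll : l = l0
    · refine mem_insert.2 (Or.inl ?_)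
      rw [hll]
      ext x
      simp only [mem_image, mem_minf]
      constructor
      · rintro ⟨p, hp, rfl⟩
        obtain ⟨k, hk⟩ := e.surjective ⟨p, hp⟩
        have : (e k : α) = p := congrArg Subtype.val hk
        exact ⟨k, by rw [← this, hFe]⟩
      · rintro ⟨k, rfl⟩
        exact ⟨_, he k, hFe k⟩
    · obtain ⟨z, hzl, hz0⟩ := P.meet hl hl0
      obtain ⟨k, hk⟩ := e.surjective ⟨z, hz0⟩
      have hkz : (e k : α) = z := congrArg Subtype.val hk
      subst hkz
      obtain ⟨q, hq, hqe⟩ : ∃ q ∈ l, q ≠ (e k : α) :=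
        exists_mem_ne (by rw [P.card_line hl]; omega) _
      have hqA : q ∉ l0 := fun h => hll (P.eq_of_two hqe hl hl0 hq hzl h (he k))
      refine mem_insert.2 (Or.inr (mem_image.2 ⟨(k, coord k (coE ⟨q, hqA⟩)), mem_univ _, ?_⟩))
      ext x
      simp only [mem_image]
      constructor
      · intro hx
        rcases x with v | j
        · refine ⟨(coE.symm v).1, ?_, by rw [hFa, coE.apply_symm_apply]⟩
          have h := (hclass k v (coE ⟨q, hqA⟩)).2 (mem_mline_inl.1 hx)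
          simp only [G, coE.symm_apply_apply, hg] at h
          rw [← P.line_eq (hAne k ⟨q, hqA⟩) hl hzl hq, ← h]
          exact (P.line_spec (hAne k (coE.symm v))).2.2
        · obtain rfl := mem_mline_inr.1 hx
          exact ⟨_, hzl, hFe j⟩
      · rintro ⟨p, hp, rfl⟩
        by_cases hpe : p ∈ l0
        · have hpk : p = (e k : α) := by
            by_contra hne
            exact hll (P.eq_of_two hne hl hl0 hp hzl hpe (he k))
          rw [hpk, hFe]
          exact mem_mline_inr.2 rfl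
        · rw [hFa ⟨p, hpe⟩, mem_mline_inl, ← hclass k]
          simp only [G, coE.symm_apply_apply, hg]
          rw [P.line_eq (hAne k ⟨p, hpe⟩) hl hzl hp, P.line_eq (hAne k ⟨q, hqA⟩) hl hzl hq]
  · rw [Set.ncard_image_of_injective _ (Finset.image_injective F.injective), Set.ncard_coe_finset]
    refine card_mLines.trans ?_
    rw [← P.card_lines, ← Set.ncard_coe_finset]
    exact le_of_eq (congrArg Set.ncard (Set.ext fun l => by simp [mem_lines]))

/-! ### The automorphisms of the model -/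

theorem mLine_mem (k : Fin 4) (c : ZMod 3) : mline k c ∈ mLines :=
  mem_insert_of_mem (mem_image.2 ⟨(k, c), mem_univ _, rfl⟩)

theorem mline_inter : ∀ q q' : Fin 4 × ZMod 3, q = q' ∨ (mline q.1 q.2 ∩ mline q'.1 q'.2).card ≤ 1 := by
  decide +kernel

theorem minf_inter : ∀ q : Fin 4 × ZMod 3, (minf ∩ mline q.1 q.2).card ≤ 1 := by decide +kernel

theorem model_inter (l : Finset MPt) (hl : l ∈ mLines) (m : Finset MPt) (hm : m ∈ mLines) :
    l = m ∨ (l ∩ m).card ≤ 1 := by
  rw [mLines, mem_insert, mem_image] at hl hm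
  rcases hl with rfl | ⟨q, -, rfl⟩ <;> rcases hm with rfl | ⟨q', -, rfl⟩
  · exact Or.inl rfl
  · exact Or.inr (minf_inter q')
  · exact Or.inr (by rw [inter_comm]; exact minf_inter q)
  · rcases mline_inter q q' with rfl | h
    · exact Or.inl rfl
    · exact Or.inr h

theorem model_two (x y : MPt) (hxy : x ≠ y) (l : Finset MPt) (hl : l ∈ mLines) (m : Finset MPt) (hm : m ∈ mLines)
    (h1 : x ∈ l) (h2 : y ∈ l) (h3 : x ∈ m) (h4 : y ∈ m) : l = m :=
  (model_inter l hl m hm).resolve_right fun h =>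
    hxy (card_le_one.1 h x (mem_inter.2 ⟨h1, h3⟩) y (mem_inter.2 ⟨h2, h4⟩))

theorem aut_line {σ : Equiv.Perm MPt} (hσ : σ ∈ Cfsg.setSystemAut (mLines : Set (Finset MPt))) {x y : MPt}
    (hxy : x ≠ y) {l : Finset MPt} (hl : l ∈ mLines) (hx : x ∈ l) (hy : y ∈ l) (hfx : σ x = x) (hfy : σ y = y) :
    ∀ p ∈ l, σ p ∈ l := by
  have him : l.image σ ∈ mLines := by
    have h := MulAction.mem_stabilizer_iff.1 hσ
    have h' : σ • l ∈ σ • (mLines : Set (Finset MPt)) := Set.smul_mem_smul_set hl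
    rw [h] at h'
    exact h'
  have : l.image σ = l :=
    model_two x y hxy _ him l hl (mem_image.2 ⟨x, hx, hfx⟩) (mem_image.2 ⟨y, hy, hfy⟩) hx hy
  intro p hp
  rw [← this]
  exact mem_image_of_mem _ hp

theorem aut_meet {σ : Equiv.Perm MPt} (hσ : σ ∈ Cfsg.setSystemAut (mLines : Set (Finset MPt))) {x y x' y' p : MPt}
    (l m : Finset MPt) (hl : l ∈ mLines) (hm : m ∈ mLines)
    (hd : x ∈ l ∧ y ∈ l ∧ x' ∈ m ∧ y' ∈ m ∧ p ∈ l ∧ p ∈ m ∧ x ≠ y ∧ x' ≠ y' ∧ l ∩ m = {p})
    (hfx : σ x = x) (hfy : σ y = y) (hfx' : σ x' = x') (hfy' : σ y' = y') : σ p = p := by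
  obtain ⟨h1, h2, h3, h4, h5, h6, h7, h8, h9⟩ := hd
  have := mem_inter.2 ⟨aut_line hσ h7 hl h1 h2 hfx hfy p h5, aut_line hσ h8 hm h3 h4 hfx' hfy' p h6⟩
  rw [h9] at this
  exact mem_singleton.1 this

theorem aut_rigid {σ : Equiv.Perm MPt} (hσ : σ ∈ Cfsg.setSystemAut (mLines : Set (Finset MPt)))
    (h1 : σ (Sum.inr 0) = Sum.inr 0) (h2 : σ (Sum.inr 1) = Sum.inr 1) (h3 : σ (Sum.inl (0, 0)) = Sum.inl (0, 0))
    (h4 : σ (Sum.inl (1, 1)) = Sum.inl (1, 1)) : σ = 1 := by
  have hinf : minf ∈ mLines := mem_insert_self _ _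
  have E2 : σ (Sum.inr 2) = Sum.inr 2 :=
    aut_meet hσ minf (mline 2 0) hinf (mLine_mem _ _) (by decide +kernel) h1 h2 h3 h4
  have A01 : σ (Sum.inl (0, 1)) = Sum.inl (0, 1) :=
    aut_meet hσ (mline 0 0) (mline 1 1) (mLine_mem _ _) (mLine_mem _ _) (by decide +kernel) h1 h3 h2 h4
  have A10 : σ (Sum.inl (1, 0)) = Sum.inl (1, 0) :=
    aut_meet hσ (mline 0 1) (mline 1 0) (mLine_mem _ _) (mLine_mem _ _) (by decide +kernel) h1 h4 h2 h3
  have E3 : σ (Sum.inr 3) = Sum.inr 3 :=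
    aut_meet hσ minf (mline 3 1) hinf (mLine_mem _ _) (by decide +kernel) h1 h2 A01 A10
  have A22 : σ (Sum.inl (2, 2)) = Sum.inl (2, 2) :=
    aut_meet hσ (mline 2 0) (mline 3 1) (mLine_mem _ _) (mLine_mem _ _) (by decide +kernel) h3 h4 A01 A10
  have A02 : σ (Sum.inl (0, 2)) = Sum.inl (0, 2) :=
    aut_meet hσ (mline 0 0) (mline 1 2) (mLine_mem _ _) (mLine_mem _ _) (by decide +kernel) h1 h3 h2 A22
  have A20 : σ (Sum.inl (2, 0)) = Sum.inl (2, 0) :=
    aut_meet hσ (mline 0 2) (mline 1 0) (mLine_mem _ _) (mLine_mem _ _) (by decide +kernel) h1 A22 h2 h3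
  have A12 : σ (Sum.inl (1, 2)) = Sum.inl (1, 2) :=
    aut_meet hσ (mline 0 1) (mline 1 2) (mLine_mem _ _) (mLine_mem _ _) (by decide +kernel) h1 h4 h2 A22
  have A21 : σ (Sum.inl (2, 1)) = Sum.inl (2, 1) :=
    aut_meet hσ (mline 0 2) (mline 1 1) (mLine_mem _ _) (mLine_mem _ _) (by decide +kernel) h1 A22 h2 h4
  refine Equiv.ext fun x => ?_
  rcases x with ⟨i, j⟩ | k
  · have hi : i = 0 ∨ i = 1 ∨ i = 2 := by revert i; decide
    have hj : j = 0 ∨ j = 1 ∨ j = 2 := by revert j; decide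
    rcases hi with rfl | rfl | rfl <;> rcases hj with rfl | rfl | rfl <;> assumption
  · fin_cases k <;> assumption

theorem card_aut_le : Nat.card (Cfsg.setSystemAut (mLines : Set (Finset MPt))) ≤ 5616 := by
  classical
  set A := Cfsg.setSystemAut (mLines : Set (Finset MPt)) with hA
  have step : ∀ (H : Subgroup (Equiv.Perm MPt)) (x : MPt) (s : Finset MPt),
      (∀ σ ∈ H, σ x ∈ s) → Nat.card H ≤ s.card * Nat.card ↥(H ⊓ MulAction.stabilizer (Equiv.Perm MPt) x) := by
    intro H x s hs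
    have h := MulAction.card_orbit_mul_card_stabilizer_eq_card_group H x
    rw [← Nat.card_eq_fintype_card, ← Nat.card_eq_fintype_card, ← Nat.card_eq_fintype_card] at h
    rw [← h]
    have hst : Nat.card (MulAction.stabilizer H x) = Nat.card ↥(H ⊓ MulAction.stabilizer (Equiv.Perm MPt) x) :=
      Nat.card_congr
        { toFun := fun g => ⟨g.1.1, g.1.2, g.2⟩
          invFun := fun g => ⟨⟨g.1, g.2.1⟩, g.2.2⟩
          left_inv := fun g => rfl
          right_inv := fun g => rfl }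
    rw [hst]
    refine Nat.mul_le_mul_right _ ?_
    rw [Nat.card_eq_fintype_card, ← Set.toFinset_card]
    refine card_le_card fun y hy => ?_
    obtain ⟨g, rfl⟩ := Set.mem_toFinset.1 hy
    exact hs _ g.2
  have key : ∀ (H : Subgroup (Equiv.Perm MPt)), H ≤ A → ∀ (x : MPt) (T : Finset MPt), x ∉ T →
      (∀ σ ∈ H, ∀ y ∈ T, σ y ∈ T) → ∀ σ ∈ H, σ x ∈ Tᶜ := by
    intro H _ x T hx hT σ hσ
    refine mem_compl.2 fun hmem => hx ?_
    have := hT σ⁻¹ (H.inv_mem hσ) _ hmem
    simpa using this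
  set H1 := A ⊓ MulAction.stabilizer (Equiv.Perm MPt) (Sum.inr 0 : MPt) with hH1
  set H2 := H1 ⊓ MulAction.stabilizer (Equiv.Perm MPt) (Sum.inr 1 : MPt) with hH2
  set H3 := H2 ⊓ MulAction.stabilizer (Equiv.Perm MPt) (Sum.inl (0, 0) : MPt) with hH3
  have f1 : ∀ σ ∈ H1, σ (Sum.inr 0) = Sum.inr 0 := fun σ h => h.2
  have hinf2 : ∀ σ ∈ H2, ∀ p ∈ minf, σ p ∈ minf := fun σ h =>
    aut_line h.1.1 (x := Sum.inr 0) (y := Sum.inr 1) (by decide) (mem_insert_self _ _) (by decide) (by decide) h.1.2 h.2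
  have s1 := step A (Sum.inr 0) univ (fun σ _ => mem_univ _)
  have s2 := step H1 (Sum.inr 1) ({Sum.inr 0} : Finset MPt)ᶜ
    (key H1 inf_le_left _ _ (by decide) fun σ h y hy => by
      rw [mem_singleton.1 hy, f1 σ h]; exact mem_singleton_self _)
  have s3 := step H2 (Sum.inl (0, 0)) minfᶜ
    (key H2 (inf_le_left.trans inf_le_left) _ _ (by decide) hinf2)
  have s4 := step H3 (Sum.inl (1, 1)) (minf ∪ mline 0 0 ∪ mline 1 0)ᶜ
    (key H3 (inf_le_left.trans (inf_le_left.trans inf_le_left)) _ _ (by decide) fun σ h y hy => by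
      rcases mem_union.1 hy with hy | hy
      · rcases mem_union.1 hy with hy | hy
        · exact mem_union_left _ (mem_union_left _ (hinf2 σ h.1 y hy))
        · exact mem_union_left _ (mem_union_right _ (aut_line h.1.1.1 (x := Sum.inr 0) (y := Sum.inl (0, 0))
            (by decide) (mLine_mem _ _) (by decide) (by decide) h.1.1.2 h.2 y hy))
      · exact mem_union_right _ (aut_line h.1.1.1 (x := Sum.inr 1) (y := Sum.inl (0, 0))
            (by decide) (mLine_mem _ _) (by decide) (by decide) h.1.2 h.2 y hy))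
  have hbot : Nat.card ↥(H3 ⊓ MulAction.stabilizer (Equiv.Perm MPt) (Sum.inl (1, 1) : MPt)) = 1 := by
    rw [show H3 ⊓ MulAction.stabilizer (Equiv.Perm MPt) (Sum.inl (1, 1) : MPt) = ⊥ from
      (Subgroup.eq_bot_iff_forall _).2 fun σ h => aut_rigid h.1.1.1.1 h.1.1.1.2 h.1.1.2 h.1.2 h.2,
      Subgroup.card_bot]
  have c1 : (univ : Finset MPt).card = 13 := by decide
  have c2 : ({Sum.inr 0} : Finset MPt)ᶜ.card = 12 := by decide
  have c3 : minfᶜ.card = 9 := by decide +kernel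
  have c4 : (minf ∪ mline 0 0 ∪ mline 1 0)ᶜ.card = 4 := by decide +kernel
  rw [c1] at s1
  rw [c2] at s2
  rw [c3] at s3
  rw [c4, hbot] at s4
  calc Nat.card A ≤ 13 * Nat.card H1 := s1
    _ ≤ 13 * (12 * Nat.card H2) := Nat.mul_le_mul_left _ s2
    _ ≤ 13 * (12 * (9 * Nat.card H3)) := Nat.mul_le_mul_left _ (Nat.mul_le_mul_left _ s3)
    _ ≤ 13 * (12 * (9 * (4 * 1))) := Nat.mul_le_mul_left _ (Nat.mul_le_mul_left _ (Nat.mul_le_mul_left _ s4))
    _ = 5616 := by norm_num

end Cfsg.Agent.Lib.PlaneThree
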