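import Cfsg.Prelude.Def_Sporadic_a
import Mathlib

/-!
Projective planes of order three, given as Steiner systems `S(2, 4, 13)`.
-/

set_option autoImplicit false

namespace Cfsg.Agent.Lib.PlaneThree

open Finset

variable {α : Type*} [Fintype α] [DecidableEq α] {L : Set (Finset α)}

/-- A plane of order three. -/
structure IsPlane (L : Set (Finset α)) : Prop where
  card_points : Fintype.card α = 13
  steiner : Cfsg.IsSteinerSystem 2 4 L

/-- The lines as a finset. -/
noncomputable def lines (L : Set (Finset α)) : Finset (Finset α) := by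
  classical exact univ.filter fun l => l ∈ L

theorem mem_lines {l : Finset α} : l ∈ lines L ↔ l ∈ L := by simp [lines]

/-- The lines through a point. -/
noncomputable def through (L : Set (Finset α)) (p : α) : Finset (Finset α) := (lines L).filter fun l => p ∈ l

theorem mem_through {l : Finset α} {p : α} : l ∈ through L p ↔ l ∈ L ∧ p ∈ l := by simp [through, mem_lines]

open Classical in
/-- The line through two points. -/
noncomputable def line (L : Set (Finset α)) (p q : α) : Finset α :=
  if h : ∃ l ∈ L, p ∈ l ∧ q ∈ l then h.choose else ∅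

namespace IsPlane

variable (P : IsPlane L)
include P

theorem card_line {l : Finset α} (hl : l ∈ L) : l.card = 4 := P.steiner.1 l hl

theorem eq_of_two {p q : α} (hpq : p ≠ q) {l m : Finset α} (hl : l ∈ L) (hm : m ∈ L)
    (h1 : p ∈ l) (h2 : q ∈ l) (h3 : p ∈ m) (h4 : q ∈ m) : l = m := by
  obtain ⟨b, -, hu⟩ := P.steiner.2 {p, q} (card_pair hpq)
  rw [hu l ⟨hl, by simp [insert_subset_iff, h1, h2]⟩, hu m ⟨hm, by simp [insert_subset_iff, h3, h4]⟩]

theorem eq_point {p q : α} {l m : Finset α} (hl : l ∈ L) (hm : m ∈ L) (hne : l ≠ m)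
    (h1 : p ∈ l) (h2 : q ∈ l) (h3 : p ∈ m) (h4 : q ∈ m) : p = q :=
  by_contra fun h => hne (P.eq_of_two h hl hm h1 h2 h3 h4)

theorem line_spec {p q : α} (hpq : p ≠ q) : line L p q ∈ L ∧ p ∈ line L p q ∧ q ∈ line L p q := by
  have h : ∃ l ∈ L, p ∈ l ∧ q ∈ l := by
    obtain ⟨b, ⟨hb, hsub⟩, -⟩ := P.steiner.2 {p, q} (card_pair hpq)
    exact ⟨b, hb, hsub (by simp), hsub (by simp)⟩
  rw [line, dif_pos h]
  exact ⟨h.choose_spec.1, h.choose_spec.2.1, h.choose_spec.2.2⟩

theorem line_eq {p q : α} (hpq : p ≠ q) {l : Finset α} (hl : l ∈ L) (hp : p ∈ l) (hq : q ∈ l) : line L p q = l :=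
  P.eq_of_two hpq (P.line_spec hpq).1 hl (P.line_spec hpq).2.1 (P.line_spec hpq).2.2 hp hq

theorem card_through (p : α) : (through L p).card = 4 := by
  have h : (univ.erase p).card = ∑ l ∈ through L p, (l.erase p).card := by
    rw [← card_biUnion]
    · congr 1
      ext q
      simp only [mem_erase, mem_univ, and_true, mem_biUnion, mem_through]
      exact ⟨fun h => ⟨line L p q, ⟨(P.line_spec (Ne.symm h)).1, (P.line_spec (Ne.symm h)).2.1⟩, h, (P.line_spec (Ne.symm h)).2.2⟩,
        fun ⟨_, _, h, _⟩ => h⟩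
    · intro l hl m hm hne
      refine disjoint_left.2 fun q hq hq' => ?_
      simp only [mem_coe, mem_through] at hl hm
      exact (mem_erase.1 hq).1 (P.eq_point hl.1 hm.1 hne (mem_erase.1 hq).2 hl.2 (mem_erase.1 hq').2 hm.2)
  have h4 : ∀ l ∈ through L p, (l.erase p).card = 3 := fun l hl => by
    rw [card_erase_of_mem (mem_through.1 hl).2, P.card_line (mem_through.1 hl).1]
  rw [card_erase_of_mem (mem_univ p), card_univ, P.card_points, sum_congr rfl h4, sum_const, smul_eq_mul] at h
  omega

/-- Any two lines meet. -/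
theorem meet {l m : Finset α} (hl : l ∈ L) (hm : m ∈ L) : ∃ p, p ∈ l ∧ p ∈ m := by
  obtain ⟨p, hp⟩ : m.Nonempty := card_pos.1 (by rw [P.card_line hm]; omega)
  by_cases hpl : p ∈ l
  · exact ⟨p, hpl, hp⟩
  have hne : ∀ q ∈ l, p ≠ q := fun q hq e => hpl (e ▸ hq)
  have hi : Set.InjOn (line L p) (l : Set α) := fun q hq q' hq' e => by
    refine P.eq_point hl (P.line_spec (hne q hq)).1 ?_ hq hq' (P.line_spec (hne q hq)).2.2 ?_
    · exact fun h => hpl (h ▸ (P.line_spec (hne q hq)).2.1)
    · rw [e]; exact (P.line_spec (hne q' hq')).2.2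
  have h : l.image (line L p) = through L p := by
    refine eq_of_subset_of_card_le (fun x hx => ?_) ?_
    · obtain ⟨q, hq, rfl⟩ := mem_image.1 hx
      exact mem_through.2 ⟨(P.line_spec (hne q hq)).1, (P.line_spec (hne q hq)).2.1⟩
    · rw [card_image_of_injOn hi, P.card_line hl, P.card_through]
  obtain ⟨q, hq, hqm⟩ := mem_image.1 (h.symm ▸ mem_through.2 ⟨hm, hp⟩ : m ∈ l.image (line L p))
  exact ⟨q, hq, hqm ▸ (P.line_spec (hne q hq)).2.2⟩

theorem card_lines : (lines L).card = 13 := by
  have h := sum_card_bipartiteAbove_eq_sum_card_bipartiteBelow (s := (univ : Finset α)) (t := lines L) (fun p l => p ∈ l)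
  have h1 : ∀ p ∈ (univ : Finset α), (bipartiteAbove (fun p l => p ∈ l) (lines L) p).card = 4 := fun p _ => P.card_through p
  have h2 : ∀ l ∈ lines L, (bipartiteBelow (fun p l => p ∈ l) (univ : Finset α) l).card = 4 := fun l hl => by
    rw [show bipartiteBelow (fun p l => p ∈ l) (univ : Finset α) l = l by ext; simp [bipartiteBelow]]
    exact P.card_line (mem_lines.1 hl)
  rw [sum_congr rfl h1, sum_congr rfl h2, sum_const, sum_const, card_univ, P.card_points] at h
  simp at h
  omega

end IsPlane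

end Cfsg.Agent.Lib.PlaneThree
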